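import Cfsg.Agent.Lib.H17.M22M.MonoTw

set_option autoImplicit false
set_option maxRecDepth 100000

/-! # The relations among the twist symbols (generated) -/

namespace Cfsg.Agent.Lib.H6.U43M.Cert

open Cfsg.Agent.Lib.H17.MonoCert

/-- the relation vectors -/
def relV : List (List ℤ) := [[-1, 0, 0, 0, 0, 0, 2, 1, 2, -1, -1], [2, 0, 0, 0, 0, -3, 0, 0, 0, 0, 0], [0, 0, 0, 0, 0, 0, 3, 3, 0, 0, 0], [3, 0, 0, 0, 0, 0, 0, 0, -3, 0, 0], [0, 0, 0, 0, 0, 0, -1, -4, 1, -1, 0], [-2, 0, 0, 0, 0, 1, 2, 5, 0, 0, 2], [-2, 0, 0, 0, 0, 0, -5, -7, 3, -1, 2], [6, 0, 0, 0, 0, 1, -1, 4, -8, 0, 4], [-3, 0, 0, -1, 0, 0, 10, 15, 3, 2, 0], [14, 1, 0, 0, 1, 0, 15, 4, -14, -3, -10], [-20, 0, 0, 0, 1, -1, 13, 20, 19, 3, 1], [82, 0, 1, -1, -3, 2, 82, 74,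 -80, 11, -40]]

theorem rel_alg_add {M : Type*} [AddCommGroup M] (a0 a1 a2 a3 a4 a5 a6 a7 a8 a9 a10 : M)
    (h0 : (-1 : ℤ) • a0 + ((0 : ℤ) • a1 + ((0 : ℤ) • a2 + ((0 : ℤ) • a3 + ((0 : ℤ) • a4 + ((0 : ℤ) • a5 + ((2 : ℤ) • a6 + ((1 : ℤ) • a7 + ((2 : ℤ) • a8 + ((-1 : ℤ) • a9 + ((-1 : ℤ) • a10 + 0)))))))))) = 0)
    (h1 : (2 : ℤ) • a0 + ((0 : ℤ) • a1 + ((0 : ℤ) • a2 + ((0 : ℤ) • a3 + ((0 : ℤ) • a4 + ((-3 : ℤ) • a5 + ((0 : ℤ) • a6 + ((0 : ℤ) • a7 + ((0 : ℤ) • a8 + ((0 : ℤ) • a9 + ((0 : ℤ) • a10 + 0)))))))))) = 0)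
    (h2 : (0 : ℤ) • a0 + ((0 : ℤ) • a1 + ((0 : ℤ) • a2 + ((0 : ℤ) • a3 + ((0 : ℤ) • a4 + ((0 : ℤ) • a5 + ((3 : ℤ) • a6 + ((3 : ℤ) • a7 + ((0 : ℤ) • a8 + ((0 : ℤ) • a9 + ((0 : ℤ) • a10 + 0)))))))))) = 0)
    (h3 : (3 : ℤ) • a0 + ((0 : ℤ) • a1 + ((0 : ℤ) • a2 + ((0 : ℤ) • a3 + ((0 : ℤ) • a4 + ((0 : ℤ) • a5 + ((0 : ℤ) • a6 + ((0 : ℤ) • a7 + ((-3 : ℤ) • a8 + ((0 : ℤ) • a9 + ((0 : ℤ) • a10 + 0)))))))))) = 0)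
    (h4 : (0 : ℤ) • a0 + ((0 : ℤ) • a1 + ((0 : ℤ) • a2 + ((0 : ℤ) • a3 + ((0 : ℤ) • a4 + ((0 : ℤ) • a5 + ((-1 : ℤ) • a6 + ((-4 : ℤ) • a7 + ((1 : ℤ) • a8 + ((-1 : ℤ) • a9 + ((0 : ℤ) • a10 + 0)))))))))) = 0)
    (h5 : (-2 : ℤ) • a0 + ((0 : ℤ) • a1 + ((0 : ℤ) • a2 + ((0 : ℤ) • a3 + ((0 : ℤ) • a4 + ((1 : ℤ) • a5 + ((2 : ℤ) • a6 + ((5 : ℤ) • a7 + ((0 : ℤ) • a8 + ((0 : ℤ) • a9 + ((2 : ℤ) • a10 + 0)))))))))) = 0)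
    (h6 : (-2 : ℤ) • a0 + ((0 : ℤ) • a1 + ((0 : ℤ) • a2 + ((0 : ℤ) • a3 + ((0 : ℤ) • a4 + ((0 : ℤ) • a5 + ((-5 : ℤ) • a6 + ((-7 : ℤ) • a7 + ((3 : ℤ) • a8 + ((-1 : ℤ) • a9 + ((2 : ℤ) • a10 + 0)))))))))) = 0)
    (h7 : (6 : ℤ) • a0 + ((0 : ℤ) • a1 + ((0 : ℤ) • a2 + ((0 : ℤ) • a3 + ((0 : ℤ) • a4 + ((1 : ℤ) • a5 + ((-1 : ℤ) • a6 + ((4 : ℤ) • a7 + ((-8 : ℤ) • a8 + ((0 : ℤ) • a9 + ((4 : ℤ) • a10 + 0)))))))))) = 0)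
    (h8 : (-3 : ℤ) • a0 + ((0 : ℤ) • a1 + ((0 : ℤ) • a2 + ((-1 : ℤ) • a3 + ((0 : ℤ) • a4 + ((0 : ℤ) • a5 + ((10 : ℤ) • a6 + ((15 : ℤ) • a7 + ((3 : ℤ) • a8 + ((2 : ℤ) • a9 + ((0 : ℤ) • a10 + 0)))))))))) = 0)
    (h9 : (14 : ℤ) • a0 + ((1 : ℤ) • a1 + ((0 : ℤ) • a2 + ((0 : ℤ) • a3 + ((1 : ℤ) • a4 + ((0 : ℤ) • a5 + ((15 : ℤ) • a6 + ((4 : ℤ) • a7 + ((-14 : ℤ) • a8 + ((-3 : ℤ) • a9 + ((-10 : ℤ) • a10 + 0)))))))))) = 0)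
    (h10 : (-20 : ℤ) • a0 + ((0 : ℤ) • a1 + ((0 : ℤ) • a2 + ((0 : ℤ) • a3 + ((1 : ℤ) • a4 + ((-1 : ℤ) • a5 + ((13 : ℤ) • a6 + ((20 : ℤ) • a7 + ((19 : ℤ) • a8 + ((3 : ℤ) • a9 + ((1 : ℤ) • a10 + 0)))))))))) = 0)
    (h11 : (82 : ℤ) • a0 + ((0 : ℤ) • a1 + ((1 : ℤ) • a2 + ((-1 : ℤ) • a3 + ((-3 : ℤ) • a4 + ((2 : ℤ) • a5 + ((82 : ℤ) • a6 + ((74 : ℤ) • a7 + ((-80 : ℤ) • a8 + ((11 : ℤ) • a9 + ((-40 : ℤ) • a10 + 0)))))))))) = 0)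
    : (0 : ℤ) • a0 + ((0 : ℤ) • a1 + ((0 : ℤ) • a2 + ((0 : ℤ) • a3 + ((0 : ℤ) • a4 + ((0 : ℤ) • a5 + ((0 : ℤ) • a6 + ((0 : ℤ) • a7 + ((0 : ℤ) • a8 + ((12 : ℤ) • a9 + ((0 : ℤ) • a10 + 0)))))))))) = 0 ∧
      (0 : ℤ) • a0 + ((0 : ℤ) • a1 + ((0 : ℤ) • a2 + ((0 : ℤ) • a3 + ((0 : ℤ) • a4 + ((0 : ℤ) • a5 + ((0 : ℤ) • a6 + ((0 : ℤ) • a7 + ((0 : ℤ) • a8 + ((0 : ℤ) • a9 + ((3 : ℤ) • a10 + 0)))))))))) = 0 ∧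
      (1 : ℤ) • a0 + ((0 : ℤ) • a1 + ((0 : ℤ) • a2 + ((0 : ℤ) • a3 + ((0 : ℤ) • a4 + ((0 : ℤ) • a5 + ((0 : ℤ) • a6 + ((0 : ℤ) • a7 + ((0 : ℤ) • a8 + ((-9 : ℤ) • a9 + ((0 : ℤ) • a10 + 0)))))))))) = 0 ∧
      (0 : ℤ) • a0 + ((1 : ℤ) • a1 + ((0 : ℤ) • a2 + ((0 : ℤ) • a3 + ((0 : ℤ) • a4 + ((0 : ℤ) • a5 + ((0 : ℤ) • a6 + ((0 : ℤ) • a7 + ((0 : ℤ) • a8 + ((-3 : ℤ) • a9 + ((-1 : ℤ) • a10 + 0)))))))))) = 0 ∧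
      (0 : ℤ) • a0 + ((0 : ℤ) • a1 + ((1 : ℤ) • a2 + ((0 : ℤ) • a3 + ((0 : ℤ) • a4 + ((0 : ℤ) • a5 + ((0 : ℤ) • a6 + ((0 : ℤ) • a7 + ((0 : ℤ) • a8 + ((-9 : ℤ) • a9 + ((-2 : ℤ) • a10 + 0)))))))))) = 0 ∧
      (0 : ℤ) • a0 + ((0 : ℤ) • a1 + ((0 : ℤ) • a2 + ((1 : ℤ) • a3 + ((0 : ℤ) • a4 + ((0 : ℤ) • a5 + ((0 : ℤ) • a6 + ((0 : ℤ) • a7 + ((0 : ℤ) • a8 + ((-10 : ℤ) • a9 + ((-1 : ℤ) • a10 + 0)))))))))) = 0 ∧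
      (0 : ℤ) • a0 + ((0 : ℤ) • a1 + ((0 : ℤ) • a2 + ((0 : ℤ) • a3 + ((1 : ℤ) • a4 + ((0 : ℤ) • a5 + ((0 : ℤ) • a6 + ((0 : ℤ) • a7 + ((0 : ℤ) • a8 + ((-4 : ℤ) • a9 + ((-2 : ℤ) • a10 + 0)))))))))) = 0 ∧
      (0 : ℤ) • a0 + ((0 : ℤ) • a1 + ((0 : ℤ) • a2 + ((0 : ℤ) • a3 + ((0 : ℤ) • a4 + ((1 : ℤ) • a5 + ((0 : ℤ) • a6 + ((0 : ℤ) • a7 + ((0 : ℤ) • a8 + ((-6 : ℤ) • a9 + ((-2 : ℤ) • a10 + 0)))))))))) = 0 ∧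
      (0 : ℤ) • a0 + ((0 : ℤ) • a1 + ((0 : ℤ) • a2 + ((0 : ℤ) • a3 + ((0 : ℤ) • a4 + ((0 : ℤ) • a5 + ((1 : ℤ) • a6 + ((0 : ℤ) • a7 + ((0 : ℤ) • a8 + ((-8 : ℤ) • a9 + ((-1 : ℤ) • a10 + 0)))))))))) = 0 ∧
      (0 : ℤ) • a0 + ((0 : ℤ) • a1 + ((0 : ℤ) • a2 + ((0 : ℤ) • a3 + ((0 : ℤ) • a4 + ((0 : ℤ) • a5 + ((0 : ℤ) • a6 + ((1 : ℤ) • a7 + ((0 : ℤ) • a8 + ((-4 : ℤ) • a9 + ((0 : ℤ) • a10 + 0)))))))))) = 0 ∧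
      (0 : ℤ) • a0 + ((0 : ℤ) • a1 + ((0 : ℤ) • a2 + ((0 : ℤ) • a3 + ((0 : ℤ) • a4 + ((0 : ℤ) • a5 + ((0 : ℤ) • a6 + ((0 : ℤ) • a7 + ((1 : ℤ) • a8 + ((-1 : ℤ) • a9 + ((-1 : ℤ) • a10 + 0)))))))))) = 0 ∧
      True := by
  refine ⟨?_, ?_, ?_, ?_, ?_, ?_, ?_, ?_, ?_, ?_, ?_, ?_⟩
  · linear_combination (norm := module) (-8 : ℤ) • h0 + (-3 : ℤ) • h1 + (16 : ℤ) • h2 + (-10 : ℤ) • h3 + (-7 : ℤ) • h4 + (-11 : ℤ) • h5 + (3 : ℤ) • h6 + (2 : ℤ) • h7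
  · linear_combination (norm := module) (-1 : ℤ) • h0 + (2 : ℤ) • h2 + (-3 : ℤ) • h3 + (1 : ℤ) • h4 + (-1 : ℤ) • h5 + (1 : ℤ) • h7
  · linear_combination (norm := module) (5024 : ℤ) • h0 + (2 : ℤ) • h1 + (2498 : ℤ) • h2 + (45165 : ℤ) • h3 + (-20066 : ℤ) • h4 + (12551 : ℤ) • h5 + (15051 : ℤ) • h6 + (-12545 : ℤ) • h7
  · linear_combination (norm := module) (-191924 : ℤ) • h0 + (-95957 : ℤ) • h2 + (-1727344 : ℤ) • h3 + (767693 : ℤ) • h4 + (-479817 : ℤ) • h5 + (-575772 : ℤ) • h6 + (479816 : ℤ) • h7 + (1 : ℤ) • h9 + (-1 : ℤ) • h10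
  · linear_combination (norm := module) (-342113 : ℤ) • h0 + (6 : ℤ) • h1 + (-171105 : ℤ) • h2 + (-3079076 : ℤ) • h3 + (1368498 : ℤ) • h4 + (-855281 : ℤ) • h5 + (-1026358 : ℤ) • h6 + (855300 : ℤ) • h7 + (-1 : ℤ) • h8 + (3 : ℤ) • h10 + (1 : ℤ) • h11
  · linear_combination (norm := module) (2767 : ℤ) • h0 + (2 : ℤ) • h1 + (1371 : ℤ) • h2 + (24842 : ℤ) • h3 + (-11036 : ℤ) • h4 + (6906 : ℤ) • h5 + (8277 : ℤ) • h6 + (-6900 : ℤ) • h7 + (-1 : ℤ) • h8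
  · linear_combination (norm := module) (84133 : ℤ) • h0 + (1 : ℤ) • h1 + (42052 : ℤ) • h2 + (757177 : ℤ) • h3 + (-336512 : ℤ) • h4 + (210329 : ℤ) • h5 + (252386 : ℤ) • h6 + (-210325 : ℤ) • h7 + (1 : ℤ) • h10
  · linear_combination (norm := module) (7866 : ℤ) • h0 + (1 : ℤ) • h1 + (3922 : ℤ) • h2 + (70756 : ℤ) • h3 + (-31442 : ℤ) • h4 + (19658 : ℤ) • h5 + (23582 : ℤ) • h6 + (-19654 : ℤ) • h7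
  · linear_combination (norm := module) (2765 : ℤ) • h0 + (2 : ℤ) • h1 + (1369 : ℤ) • h2 + (24845 : ℤ) • h3 + (-11034 : ℤ) • h4 + (6907 : ℤ) • h5 + (8277 : ℤ) • h6 + (-6901 : ℤ) • h7
  · linear_combination (norm := module) (-666 : ℤ) • h0 + (1 : ℤ) • h1 + (-340 : ℤ) • h2 + (-6018 : ℤ) • h3 + (2678 : ℤ) • h4 + (-1669 : ℤ) • h5 + (-2008 : ℤ) • h6 + (1672 : ℤ) • h7
  · linear_combination (norm := module) (85 : ℤ) • h0 + (41 : ℤ) • h2 + (753 : ℤ) • h3 + (-335 : ℤ) • h4 + (209 : ℤ) • h5 + (251 : ℤ) • h6 + (-209 : ℤ) • h7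
  · trivial

theorem rel_alg {A : Type*} [CommGroup A] (z0 z1 z2 z3 z4 z5 z6 z7 z8 z9 z10 : A)
    (h0 : ltw [z0, z1, z2, z3, z4, z5, z6, z7, z8, z9, z10] [-1, 0, 0, 0, 0, 0, 2, 1, 2, -1, -1] = 1)
    (h1 : ltw [z0, z1, z2, z3, z4, z5, z6, z7, z8, z9, z10] [2, 0, 0, 0, 0, -3, 0, 0, 0, 0, 0] = 1)
    (h2 : ltw [z0, z1, z2, z3, z4, z5, z6, z7, z8, z9, z10] [0, 0, 0, 0, 0, 0, 3, 3, 0, 0, 0] = 1)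
    (h3 : ltw [z0, z1, z2, z3, z4, z5, z6, z7, z8, z9, z10] [3, 0, 0, 0, 0, 0, 0, 0, -3, 0, 0] = 1)
    (h4 : ltw [z0, z1, z2, z3, z4, z5, z6, z7, z8, z9, z10] [0, 0, 0, 0, 0, 0, -1, -4, 1, -1, 0] = 1)
    (h5 : ltw [z0, z1, z2, z3, z4, z5, z6, z7, z8, z9, z10] [-2, 0, 0, 0, 0, 1, 2, 5, 0, 0, 2] = 1)
    (h6 : ltw [z0, z1, z2, z3, z4, z5, z6, z7, z8, z9, z10] [-2, 0, 0, 0, 0, 0, -5, -7, 3, -1, 2] = 1)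
    (h7 : ltw [z0, z1, z2, z3, z4, z5, z6, z7, z8, z9, z10] [6, 0, 0, 0, 0, 1, -1, 4, -8, 0, 4] = 1)
    (h8 : ltw [z0, z1, z2, z3, z4, z5, z6, z7, z8, z9, z10] [-3, 0, 0, -1, 0, 0, 10, 15, 3, 2, 0] = 1)
    (h9 : ltw [z0, z1, z2, z3, z4, z5, z6, z7, z8, z9, z10] [14, 1, 0, 0, 1, 0, 15, 4, -14, -3, -10] = 1)
    (h10 : ltw [z0, z1, z2, z3, z4, z5, z6, z7, z8, z9, z10] [-20, 0, 0, 0, 1, -1, 13, 20, 19, 3, 1] = 1)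
    (h11 : ltw [z0, z1, z2, z3, z4, z5, z6, z7, z8, z9, z10] [82, 0, 1, -1, -3, 2, 82, 74, -80, 11, -40] = 1)
    : ltw [z0, z1, z2, z3, z4, z5, z6, z7, z8, z9, z10] [0, 0, 0, 0, 0, 0, 0, 0, 0, 12, 0] = 1 ∧
      ltw [z0, z1, z2, z3, z4, z5, z6, z7, z8, z9, z10] [0, 0, 0, 0, 0, 0, 0, 0, 0, 0, 3] = 1 ∧
      ltw [z0, z1, z2, z3, z4, z5, z6, z7, z8, z9, z10] [1, 0, 0, 0, 0, 0, 0, 0, 0, -9, 0] = 1 ∧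
      ltw [z0, z1, z2, z3, z4, z5, z6, z7, z8, z9, z10] [0, 1, 0, 0, 0, 0, 0, 0, 0, -3, -1] = 1 ∧
      ltw [z0, z1, z2, z3, z4, z5, z6, z7, z8, z9, z10] [0, 0, 1, 0, 0, 0, 0, 0, 0, -9, -2] = 1 ∧
      ltw [z0, z1, z2, z3, z4, z5, z6, z7, z8, z9, z10] [0, 0, 0, 1, 0, 0, 0, 0, 0, -10, -1] = 1 ∧
      ltw [z0, z1, z2, z3, z4, z5, z6, z7, z8, z9, z10] [0, 0, 0, 0, 1, 0, 0, 0, 0, -4, -2] = 1 ∧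
      ltw [z0, z1, z2, z3, z4, z5, z6, z7, z8, z9, z10] [0, 0, 0, 0, 0, 1, 0, 0, 0, -6, -2] = 1 ∧
      ltw [z0, z1, z2, z3, z4, z5, z6, z7, z8, z9, z10] [0, 0, 0, 0, 0, 0, 1, 0, 0, -8, -1] = 1 ∧
      ltw [z0, z1, z2, z3, z4, z5, z6, z7, z8, z9, z10] [0, 0, 0, 0, 0, 0, 0, 1, 0, -4, 0] = 1 ∧
      ltw [z0, z1, z2, z3, z4, z5, z6, z7, z8, z9, z10] [0, 0, 0, 0, 0, 0, 0, 0, 1, -1, -1] = 1 ∧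
      True := by
  have key := rel_alg_add (M := Additive A) (Additive.ofMul z0) (Additive.ofMul z1) (Additive.ofMul z2) (Additive.ofMul z3) (Additive.ofMul z4) (Additive.ofMul z5) (Additive.ofMul z6) (Additive.ofMul z7) (Additive.ofMul z8) (Additive.ofMul z9) (Additive.ofMul z10)
    (by
      have h : z0 ^ (-1 : ℤ) * (z1 ^ (0 : ℤ) * (z2 ^ (0 : ℤ) * (z3 ^ (0 : ℤ) * (z4 ^ (0 : ℤ) * (z5 ^ (0 : ℤ) * (z6 ^ (2 : ℤ) * (z7 ^ (1 : ℤ) * (z8 ^ (2 : ℤ) * (z9 ^ (-1 : ℤ) * (z10 ^ (-1 : ℤ) * 1)))))))))) = 1 := h0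
      have := congrArg Additive.ofMul h
      simpa only [ofMul_mul, ofMul_zpow, ofMul_one] using this)
    (by
      have h : z0 ^ (2 : ℤ) * (z1 ^ (0 : ℤ) * (z2 ^ (0 : ℤ) * (z3 ^ (0 : ℤ) * (z4 ^ (0 : ℤ) * (z5 ^ (-3 : ℤ) * (z6 ^ (0 : ℤ) * (z7 ^ (0 : ℤ) * (z8 ^ (0 : ℤ) * (z9 ^ (0 : ℤ) * (z10 ^ (0 : ℤ) * 1)))))))))) = 1 := h1
      have := congrArg Additive.ofMul h
      simpa only [ofMul_mul, ofMul_zpow, ofMul_one] using this)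
    (by
      have h : z0 ^ (0 : ℤ) * (z1 ^ (0 : ℤ) * (z2 ^ (0 : ℤ) * (z3 ^ (0 : ℤ) * (z4 ^ (0 : ℤ) * (z5 ^ (0 : ℤ) * (z6 ^ (3 : ℤ) * (z7 ^ (3 : ℤ) * (z8 ^ (0 : ℤ) * (z9 ^ (0 : ℤ) * (z10 ^ (0 : ℤ) * 1)))))))))) = 1 := h2
      have := congrArg Additive.ofMul h
      simpa only [ofMul_mul, ofMul_zpow, ofMul_one] using this)
    (by
      have h : z0 ^ (3 : ℤ) * (z1 ^ (0 : ℤ) * (z2 ^ (0 : ℤ) * (z3 ^ (0 : ℤ) * (z4 ^ (0 : ℤ) * (z5 ^ (0 : ℤ) * (z6 ^ (0 : ℤ) * (z7 ^ (0 : ℤ) * (z8 ^ (-3 : ℤ) * (z9 ^ (0 : ℤ) * (z10 ^ (0 : ℤ) * 1)))))))))) = 1 := h3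
      have := congrArg Additive.ofMul h
      simpa only [ofMul_mul, ofMul_zpow, ofMul_one] using this)
    (by
      have h : z0 ^ (0 : ℤ) * (z1 ^ (0 : ℤ) * (z2 ^ (0 : ℤ) * (z3 ^ (0 : ℤ) * (z4 ^ (0 : ℤ) * (z5 ^ (0 : ℤ) * (z6 ^ (-1 : ℤ) * (z7 ^ (-4 : ℤ) * (z8 ^ (1 : ℤ) * (z9 ^ (-1 : ℤ) * (z10 ^ (0 : ℤ) * 1)))))))))) = 1 := h4
      have := congrArg Additive.ofMul h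
      simpa only [ofMul_mul, ofMul_zpow, ofMul_one] using this)
    (by
      have h : z0 ^ (-2 : ℤ) * (z1 ^ (0 : ℤ) * (z2 ^ (0 : ℤ) * (z3 ^ (0 : ℤ) * (z4 ^ (0 : ℤ) * (z5 ^ (1 : ℤ) * (z6 ^ (2 : ℤ) * (z7 ^ (5 : ℤ) * (z8 ^ (0 : ℤ) * (z9 ^ (0 : ℤ) * (z10 ^ (2 : ℤ) * 1)))))))))) = 1 := h5
      have := congrArg Additive.ofMul h
      simpa only [ofMul_mul, ofMul_zpow, ofMul_one] using this)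
    (by
      have h : z0 ^ (-2 : ℤ) * (z1 ^ (0 : ℤ) * (z2 ^ (0 : ℤ) * (z3 ^ (0 : ℤ) * (z4 ^ (0 : ℤ) * (z5 ^ (0 : ℤ) * (z6 ^ (-5 : ℤ) * (z7 ^ (-7 : ℤ) * (z8 ^ (3 : ℤ) * (z9 ^ (-1 : ℤ) * (z10 ^ (2 : ℤ) * 1)))))))))) = 1 := h6
      have := congrArg Additive.ofMul h
      simpa only [ofMul_mul, ofMul_zpow, ofMul_one] using this)
    (by
      have h : z0 ^ (6 : ℤ) * (z1 ^ (0 : ℤ) * (z2 ^ (0 : ℤ) * (z3 ^ (0 : ℤ) * (z4 ^ (0 : ℤ) * (z5 ^ (1 : ℤ) * (z6 ^ (-1 : ℤ) * (z7 ^ (4 : ℤ) * (z8 ^ (-8 : ℤ) * (z9 ^ (0 : ℤ) * (z10 ^ (4 : ℤ) * 1)))))))))) = 1 := h7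
      have := congrArg Additive.ofMul h
      simpa only [ofMul_mul, ofMul_zpow, ofMul_one] using this)
    (by
      have h : z0 ^ (-3 : ℤ) * (z1 ^ (0 : ℤ) * (z2 ^ (0 : ℤ) * (z3 ^ (-1 : ℤ) * (z4 ^ (0 : ℤ) * (z5 ^ (0 : ℤ) * (z6 ^ (10 : ℤ) * (z7 ^ (15 : ℤ) * (z8 ^ (3 : ℤ) * (z9 ^ (2 : ℤ) * (z10 ^ (0 : ℤ) * 1)))))))))) = 1 := h8
      have := congrArg Additive.ofMul h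
      simpa only [ofMul_mul, ofMul_zpow, ofMul_one] using this)
    (by
      have h : z0 ^ (14 : ℤ) * (z1 ^ (1 : ℤ) * (z2 ^ (0 : ℤ) * (z3 ^ (0 : ℤ) * (z4 ^ (1 : ℤ) * (z5 ^ (0 : ℤ) * (z6 ^ (15 : ℤ) * (z7 ^ (4 : ℤ) * (z8 ^ (-14 : ℤ) * (z9 ^ (-3 : ℤ) * (z10 ^ (-10 : ℤ) * 1)))))))))) = 1 := h9
      have := congrArg Additive.ofMul h
      simpa only [ofMul_mul, ofMul_zpow, ofMul_one] using this)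
    (by
      have h : z0 ^ (-20 : ℤ) * (z1 ^ (0 : ℤ) * (z2 ^ (0 : ℤ) * (z3 ^ (0 : ℤ) * (z4 ^ (1 : ℤ) * (z5 ^ (-1 : ℤ) * (z6 ^ (13 : ℤ) * (z7 ^ (20 : ℤ) * (z8 ^ (19 : ℤ) * (z9 ^ (3 : ℤ) * (z10 ^ (1 : ℤ) * 1)))))))))) = 1 := h10
      have := congrArg Additive.ofMul h
      simpa only [ofMul_mul, ofMul_zpow, ofMul_one] using this)
    (by
      have h : z0 ^ (82 : ℤ) * (z1 ^ (0 : ℤ) * (z2 ^ (1 : ℤ) * (z3 ^ (-1 : ℤ) * (z4 ^ (-3 : ℤ) * (z5 ^ (2 : ℤ) * (z6 ^ (82 : ℤ) * (z7 ^ (74 : ℤ) * (z8 ^ (-80 : ℤ) * (z9 ^ (11 : ℤ) * (z10 ^ (-40 : ℤ) * 1)))))))))) = 1 := h11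
      have := congrArg Additive.ofMul h
      simpa only [ofMul_mul, ofMul_zpow, ofMul_one] using this)
  obtain ⟨k0, k1, k2, k3, k4, k5, k6, k7, k8, k9, k10, -⟩ := key
  refine ⟨?_, ?_, ?_, ?_, ?_, ?_, ?_, ?_, ?_, ?_, ?_, ?_⟩
  · change z0 ^ (0 : ℤ) * (z1 ^ (0 : ℤ) * (z2 ^ (0 : ℤ) * (z3 ^ (0 : ℤ) * (z4 ^ (0 : ℤ) * (z5 ^ (0 : ℤ) * (z6 ^ (0 : ℤ) * (z7 ^ (0 : ℤ) * (z8 ^ (0 : ℤ) * (z9 ^ (12 : ℤ) * (z10 ^ (0 : ℤ) * 1)))))))))) = 1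
    apply Additive.ofMul.injective
    simpa only [ofMul_mul, ofMul_zpow, ofMul_one] using k0
  · change z0 ^ (0 : ℤ) * (z1 ^ (0 : ℤ) * (z2 ^ (0 : ℤ) * (z3 ^ (0 : ℤ) * (z4 ^ (0 : ℤ) * (z5 ^ (0 : ℤ) * (z6 ^ (0 : ℤ) * (z7 ^ (0 : ℤ) * (z8 ^ (0 : ℤ) * (z9 ^ (0 : ℤ) * (z10 ^ (3 : ℤ) * 1)))))))))) = 1
    apply Additive.ofMul.injective
    simpa only [ofMul_mul, ofMul_zpow, ofMul_one] using k1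
  · change z0 ^ (1 : ℤ) * (z1 ^ (0 : ℤ) * (z2 ^ (0 : ℤ) * (z3 ^ (0 : ℤ) * (z4 ^ (0 : ℤ) * (z5 ^ (0 : ℤ) * (z6 ^ (0 : ℤ) * (z7 ^ (0 : ℤ) * (z8 ^ (0 : ℤ) * (z9 ^ (-9 : ℤ) * (z10 ^ (0 : ℤ) * 1)))))))))) = 1
    apply Additive.ofMul.injective
    simpa only [ofMul_mul, ofMul_zpow, ofMul_one] using k2
  · change z0 ^ (0 : ℤ) * (z1 ^ (1 : ℤ) * (z2 ^ (0 : ℤ) * (z3 ^ (0 : ℤ) * (z4 ^ (0 : ℤ) * (z5 ^ (0 : ℤ) * (z6 ^ (0 : ℤ) * (z7 ^ (0 : ℤ) * (z8 ^ (0 : ℤ) * (z9 ^ (-3 : ℤ) * (z10 ^ (-1 : ℤ) * 1)))))))))) = 1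
    apply Additive.ofMul.injective
    simpa only [ofMul_mul, ofMul_zpow, ofMul_one] using k3
  · change z0 ^ (0 : ℤ) * (z1 ^ (0 : ℤ) * (z2 ^ (1 : ℤ) * (z3 ^ (0 : ℤ) * (z4 ^ (0 : ℤ) * (z5 ^ (0 : ℤ) * (z6 ^ (0 : ℤ) * (z7 ^ (0 : ℤ) * (z8 ^ (0 : ℤ) * (z9 ^ (-9 : ℤ) * (z10 ^ (-2 : ℤ) * 1)))))))))) = 1
    apply Additive.ofMul.injective
    simpa only [ofMul_mul, ofMul_zpow, ofMul_one] using k4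
  · change z0 ^ (0 : ℤ) * (z1 ^ (0 : ℤ) * (z2 ^ (0 : ℤ) * (z3 ^ (1 : ℤ) * (z4 ^ (0 : ℤ) * (z5 ^ (0 : ℤ) * (z6 ^ (0 : ℤ) * (z7 ^ (0 : ℤ) * (z8 ^ (0 : ℤ) * (z9 ^ (-10 : ℤ) * (z10 ^ (-1 : ℤ) * 1)))))))))) = 1
    apply Additive.ofMul.injective
    simpa only [ofMul_mul, ofMul_zpow, ofMul_one] using k5
  · change z0 ^ (0 : ℤ) * (z1 ^ (0 : ℤ) * (z2 ^ (0 : ℤ) * (z3 ^ (0 : ℤ) * (z4 ^ (1 : ℤ) * (z5 ^ (0 : ℤ) * (z6 ^ (0 : ℤ) * (z7 ^ (0 : ℤ) * (z8 ^ (0 : ℤ) * (z9 ^ (-4 : ℤ) * (z10 ^ (-2 : ℤ) * 1)))))))))) = 1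
    apply Additive.ofMul.injective
    simpa only [ofMul_mul, ofMul_zpow, ofMul_one] using k6
  · change z0 ^ (0 : ℤ) * (z1 ^ (0 : ℤ) * (z2 ^ (0 : ℤ) * (z3 ^ (0 : ℤ) * (z4 ^ (0 : ℤ) * (z5 ^ (1 : ℤ) * (z6 ^ (0 : ℤ) * (z7 ^ (0 : ℤ) * (z8 ^ (0 : ℤ) * (z9 ^ (-6 : ℤ) * (z10 ^ (-2 : ℤ) * 1)))))))))) = 1
    apply Additive.ofMul.injective
    simpa only [ofMul_mul, ofMul_zpow, ofMul_one] using k7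
  · change z0 ^ (0 : ℤ) * (z1 ^ (0 : ℤ) * (z2 ^ (0 : ℤ) * (z3 ^ (0 : ℤ) * (z4 ^ (0 : ℤ) * (z5 ^ (0 : ℤ) * (z6 ^ (1 : ℤ) * (z7 ^ (0 : ℤ) * (z8 ^ (0 : ℤ) * (z9 ^ (-8 : ℤ) * (z10 ^ (-1 : ℤ) * 1)))))))))) = 1
    apply Additive.ofMul.injective
    simpa only [ofMul_mul, ofMul_zpow, ofMul_one] using k8
  · change z0 ^ (0 : ℤ) * (z1 ^ (0 : ℤ) * (z2 ^ (0 : ℤ) * (z3 ^ (0 : ℤ) * (z4 ^ (0 : ℤ) * (z5 ^ (0 : ℤ) * (z6 ^ (0 : ℤ) * (z7 ^ (1 : ℤ) * (z8 ^ (0 : ℤ) * (z9 ^ (-4 : ℤ) * (z10 ^ (0 : ℤ) * 1)))))))))) = 1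
    apply Additive.ofMul.injective
    simpa only [ofMul_mul, ofMul_zpow, ofMul_one] using k9
  · change z0 ^ (0 : ℤ) * (z1 ^ (0 : ℤ) * (z2 ^ (0 : ℤ) * (z3 ^ (0 : ℤ) * (z4 ^ (0 : ℤ) * (z5 ^ (0 : ℤ) * (z6 ^ (0 : ℤ) * (z7 ^ (0 : ℤ) * (z8 ^ (1 : ℤ) * (z9 ^ (-1 : ℤ) * (z10 ^ (-1 : ℤ) * 1)))))))))) = 1
    apply Additive.ofMul.injective
    simpa only [ofMul_mul, ofMul_zpow, ofMul_one] using k10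
  · trivial

end Cfsg.Agent.Lib.H6.U43M.Cert
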