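import Cfsg.Agent.Lib.H6.U43M.Cert.StepsA
import Cfsg.Agent.Lib.H6.U43M.Cert.Rows

set_option autoImplicit false
set_option maxRecDepth 100000

/-! # Running the monomial certificate (generated) -/

namespace Cfsg.Agent.Lib.H6.U43M.Cert

open Cfsg.Agent.Lib.H17.CosetCert (BT WT)
open Cfsg.Agent.Lib.H17.MonoCert

variable {G Q A : Type*} [Group G] [MulAction G Q] [Group A] [MulAction A Q]
  [SMulCommClass G A Q] (tw : List ℤ → A) (γ : ℕ → G)

theorem run (hfree : ∀ (α β : A) (q : Q), α • q = β • q → α = β)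
    (htw : TwOK ladd (List.replicate 11 0) leq tw) (q0 : Q) (hw : WordsOK Ev tw γ q0 words 34) :
    Inv F Ev tw γ q0 words 3240 540 47 := by
  have h0 := inv_zero F Ev tw γ q0 words 34 hw
  have h1 := checkSteps_sound ladd (List.replicate 11 0) leq F Ev 6 65536 tw γ hfree htw q0 words 34 hw steps0 0 1 34 1499 540 35 h0 chk0
  have h2 := checkSteps_sound ladd (List.replicate 11 0) leq F Ev 6 65536 tw γ hfree htw q0 words 34 hw steps1 1499 540 35 2999 540 35 h1 chk1
  have h3 := checkSteps_sound ladd (List.replicate 11 0) leq F Ev 6 65536 tw γ hfree htw q0 words 34 hw steps2 2999 540 35 3240 540 47 h2 chk2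
  exact h3

end Cfsg.Agent.Lib.H6.U43M.Cert
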